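import Groth.Agent.AffLim.Integral
import Groth.Agent.DVRCrit.Centre
import Mathlib

/-!
Extending a morphism to a point with integral neighbourhood through the spectrum of its local ring.
-/

set_option autoImplicit false

open CategoryTheory CategoryTheory.Limits AlgebraicGeometry IsLocalRing

universe u

set_option backward.isDefEq.respectTransparency false
set_option backward.defeqAttrib.useBackward true

namespace Groth.Agent.RatNormal

variable {X : Scheme.{u}} (x : X)

/-- The fraction field of a local ring. -/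
abbrev Kx : Type u := FractionRing (X.presheaf.stalk x)

/-- The generic point of the spectrum of a local ring. -/
noncomputable def gen : Spec (CommRingCat.of (Kx x)) ⟶ Spec (X.presheaf.stalk x) :=
  Spec.map (CommRingCat.ofHom (algebraMap (X.presheaf.stalk x) (Kx x)))

variable [IsDomain (X.presheaf.stalk x)]

/-- The generic point of the component through a point with integral local ring. -/
noncomputable def genι : Spec (CommRingCat.of (Kx x)) ⟶ X := gen x ≫ X.fromSpecStalk x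

omit [IsDomain (X.presheaf.stalk x)] in
theorem isDomain_stalk_of_isIntegral {W : X.Opens} [IsIntegral W.toScheme] (hxW : x ∈ W) :
    IsDomain (X.presheaf.stalk x) :=
  ((asIso (W.ι.stalkMap ⟨x, hxW⟩)).commRingCatIsoToRingEquiv).toMulEquiv.isDomain

theorem gen_specializes (t : Spec (CommRingCat.of (Kx x))) (p : Spec (X.presheaf.stalk x)) :
    gen x t ⤳ p := by
  refine (PrimeSpectrum.le_iff_specializes (gen x t) p).1 fun a ha => ?_
  have h0 : algebraMap (X.presheaf.stalk x) (Kx x) a ∈ t.asIdeal := ha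
  have h1 : algebraMap (X.presheaf.stalk x) (Kx x) a ∈ (⊥ : Ideal (Kx x)) :=
    (Ideal.eq_bot_or_top (t : PrimeSpectrum (Kx x)).asIdeal).resolve_right t.isPrime.ne_top ▸ h0
  rw [Ideal.mem_bot, map_eq_zero_iff _ (IsFractionRing.injective (X.presheaf.stalk x) (Kx x))] at h1
  rw [h1]; exact zero_mem _

theorem genι_specializes (t : Spec (CommRingCat.of (Kx x))) {y : X} (hy : y ⤳ x) : genι x t ⤳ y := by
  obtain ⟨p, rfl⟩ : y ∈ Set.range (X.fromSpecStalk x) := by
    rw [Scheme.range_fromSpecStalk]; exact hy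
  exact (gen_specializes x t p).map (X.fromSpecStalk x).continuous

theorem genι_specializes_self (t : Spec (CommRingCat.of (Kx x))) : genι x t ⤳ x :=
  genι_specializes x t specializes_rfl

theorem genι_eq_genericPoint {W : X.Opens} [IsIntegral W.toScheme] (hxW : x ∈ W)
    (t : Spec (CommRingCat.of (Kx x))) : genι x t = W.ι (genericPoint W.toScheme) := by
  have h1 : W.ι (genericPoint W.toScheme) ⤳ x :=
    ((genericPoint_spec W.toScheme).specializes (y := (⟨x, hxW⟩ : W.toScheme)) trivial).map W.ι.continuous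
  have hη : genι x t ∈ W := (genι_specializes_self x t).mem_open W.2 hxW
  have h2 : W.ι (genericPoint W.toScheme) ⤳ genι x t :=
    ((genericPoint_spec W.toScheme).specializes (y := (⟨_, hη⟩ : W.toScheme)) trivial).map W.ι.continuous
  exact ((genι_specializes x t h1).antisymm h2).eq

theorem genι_specializes_of_mem {W : X.Opens} [IsIntegral W.toScheme] (hxW : x ∈ W)
    (t : Spec (CommRingCat.of (Kx x))) {y : X} (hy : y ∈ W) : genι x t ⤳ y := by
  rw [genι_eq_genericPoint x hxW t]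
  exact ((genericPoint_spec W.toScheme).specializes (y := (⟨y, hy⟩ : W.toScheme)) trivial).map W.ι.continuous

theorem genι_mem {W : X.Opens} [IsIntegral W.toScheme] (hxW : x ∈ W) (U : X.Opens)
    (hU : Dense (U : Set X)) (t : Spec (CommRingCat.of (Kx x))) : genι x t ∈ U := by
  obtain ⟨y, hyW, hyU⟩ := hU.inter_open_nonempty _ W.2 ⟨x, hxW⟩
  exact (genι_specializes_of_mem x hxW t hyW).mem_open U.2 hyU

/-- The generic point as a point of an open subset containing it. -/
noncomputable def genLift (U : X.Opens) (h : ∀ t, genι x t ∈ U) :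
    Spec (CommRingCat.of (Kx x)) ⟶ (U : Scheme.{u}) :=
  IsOpenImmersion.lift U.ι (genι x) (by rintro _ ⟨t, rfl⟩; rw [Scheme.Opens.range_ι]; exact h t)

@[reassoc (attr := simp)]
theorem genLift_ι (U : X.Opens) (h : ∀ t, genι x t ∈ U) : genLift x U h ≫ U.ι = genι x :=
  IsOpenImmersion.lift_fac _ _ _

theorem genLift_homOfLE {U V : X.Opens} (e : U ≤ V) (h : ∀ t, genι x t ∈ U) :
    genLift x U h ≫ X.homOfLE e = genLift x V (fun t => e (h t)) := by
  rw [← cancel_mono V.ι, Category.assoc, Scheme.homOfLE_ι, genLift_ι, genLift_ι]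

theorem eq_genLift {U : X.Opens} (h : ∀ t, genι x t ∈ U) (ub : Spec (CommRingCat.of (Kx x)) ⟶ (U : Scheme.{u}))
    (hub : ub ≫ U.ι = genι x) : ub = genLift x U h := by
  rw [← cancel_mono U.ι, hub, genLift_ι]

theorem genLift_eq_gen {V : X.Opens} (hxV : x ∈ V) (h : ∀ t, genι x t ∈ V) :
    genLift x V h = gen x ≫ V.fromSpecStalkOfMem x hxV := by
  rw [← cancel_mono V.ι, genLift_ι, Category.assoc, Scheme.Opens.fromSpecStalkOfMem_ι]; rfl

/-- Two morphisms on an open part of an integral neighbourhood agreeing at the generic point agree. -/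
theorem agree_self {Y S : Scheme.{u}} (pY : Y ⟶ S) [IsSeparated pY]
    {W : X.Opens} [IsIntegral W.toScheme] (hxW : x ∈ W) {N : X.Opens} (hNW : N ≤ W)
    (hN : ∀ t, genι x t ∈ N) (a b : (N : Scheme.{u}) ⟶ Y) (hab : a ≫ pY = b ≫ pY)
    (e : genLift x N hN ≫ a = genLift x N hN ≫ b) : a = b := by
  haveI : IsReduced N.toScheme := isReduced_of_isOpenImmersion (X.homOfLE hNW)
  haveI : IsDominant (genLift x N hN) := ⟨fun q => by
    obtain ⟨t⟩ : Nonempty (Spec (CommRingCat.of (Kx x))) := inferInstance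
    refine closure_mono (Set.singleton_subset_iff.2 (Set.mem_range_self t)) (specializes_iff_mem_closure.1 ?_)
    refine (N.ι.isOpenEmbedding.isInducing.specializes_iff).1 ?_
    have : N.ι (genLift x N hN t) = genι x t := by
      rw [← Scheme.Hom.comp_apply, genLift_ι]
    rw [this]
    exact genι_specializes_of_mem x hxW t (hNW q.2)⟩
  exact ext_of_isDominant_of_isSeparated pY hab (genLift x N hN) e

/-- Two morphisms on opens of an integral neighbourhood agreeing at the generic point agree. -/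
theorem agree {Y S : Scheme.{u}} (pX : X ⟶ S) (pY : Y ⟶ S) [IsSeparated pY]
    {W : X.Opens} [IsIntegral W.toScheme] (hxW : x ∈ W) {U V : X.Opens} (hUV : U ⊓ V ≤ W)
    (hU : ∀ t, genι x t ∈ U) (hV : ∀ t, genι x t ∈ V)
    (h : (U : Scheme.{u}) ⟶ Y) (hh : h ≫ pY = U.ι ≫ pX)
    (v : (V : Scheme.{u}) ⟶ Y) (hv : v ≫ pY = V.ι ≫ pX)
    (e : genLift x U hU ≫ h = genLift x V hV ≫ v) :
    X.homOfLE (inf_le_right : U ⊓ V ≤ V) ≫ v = X.homOfLE (inf_le_left : U ⊓ V ≤ U) ≫ h := by
  refine agree_self x pY hxW hUV (fun t => ⟨hU t, hV t⟩) _ _ ?_ ?_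
  · rw [Category.assoc, Category.assoc, hv, hh, ← Category.assoc, ← Category.assoc,
      Scheme.homOfLE_ι, Scheme.homOfLE_ι]
  · rw [← Category.assoc, ← Category.assoc, genLift_homOfLE, genLift_homOfLE]
    exact e.symm

theorem isGermInjectiveAt {W : X.Opens} [IsIntegral W.toScheme] (hxW : x ∈ W) :
    X.IsGermInjectiveAt x := by
  have h : X.IsGermInjectiveAt (W.ι ⟨x, hxW⟩) := inferInstance
  exact h

/-- A morphism on the spectrum of the local ring spreads out. -/
theorem exists_extension {Y S : Scheme.{u}} (pX : X ⟶ S) (pY : Y ⟶ S) [LocallyOfFiniteType pY]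
    {W : X.Opens} [IsIntegral W.toScheme] (hxW : x ∈ W)
    (g : Spec (X.presheaf.stalk x) ⟶ Y) (hg : g ≫ pY = X.fromSpecStalk x ≫ pX) :
    ∃ (V : X.Opens) (hxV : x ∈ V) (v : (V : Scheme.{u}) ⟶ Y), V ≤ W ∧ v ≫ pY = V.ι ≫ pX ∧
      V.fromSpecStalkOfMem x hxV ≫ v = g ∧
      ∀ h : ∀ t, genι x t ∈ V, genLift x V h ≫ v = gen x ≫ g := by
  haveI := isGermInjectiveAt x hxW
  obtain ⟨V₀, hxV₀, v₀, hv₀, hv₀'⟩ := spread_out_of_isGermInjective' pX pY g hg
  let V := V₀ ⊓ W
  have hxV : x ∈ V := ⟨hxV₀, hxW⟩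
  have hc : V.fromSpecStalkOfMem x hxV ≫ X.homOfLE (inf_le_left : V ≤ V₀) =
      V₀.fromSpecStalkOfMem x hxV₀ := by
    rw [← cancel_mono V₀.ι, Category.assoc, Scheme.homOfLE_ι, Scheme.Opens.fromSpecStalkOfMem_ι,
      Scheme.Opens.fromSpecStalkOfMem_ι]
  refine ⟨V, hxV, X.homOfLE inf_le_left ≫ v₀, inf_le_right, ?_, ?_, fun h => ?_⟩
  · rw [Category.assoc, hv₀', ← Category.assoc, Scheme.homOfLE_ι]
  · rw [← Category.assoc, hc, hv₀]
  · rw [genLift_eq_gen x hxV h, Category.assoc, ← Category.assoc (V.fromSpecStalkOfMem x hxV), hc, hv₀]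

/-- A point of `Y` in the fraction field with integral coordinates extends to the local ring. -/
theorem exists_hom_specStalk {Y S : Scheme.{u}} (pX : X ⟶ S) (pY : Y ⟶ S)
    {Sa : S.Opens} (hSa : IsAffineOpen Sa) (hxS : pX x ∈ Sa)
    {V : Y.Opens} (hV : IsAffineOpen V) (hVS : V ≤ pY ⁻¹ᵁ Sa)
    (φ : Γ(Y, V) ⟶ CommRingCat.of (Kx x))
    (hφS : (Spec.map φ ≫ hV.fromSpec) ≫ pY = genι x ≫ pX)
    (φ₀ : Γ(Y, V) ⟶ X.presheaf.stalk x)
    (hφ₀ : φ₀ ≫ CommRingCat.ofHom (algebraMap (X.presheaf.stalk x) (Kx x)) = φ) :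
    gen x ≫ Spec.map φ₀ ≫ hV.fromSpec = Spec.map φ ≫ hV.fromSpec ∧
      (Spec.map φ₀ ≫ hV.fromSpec) ≫ pY = X.fromSpecStalk x ≫ pX := by
  have h1 : gen x ≫ Spec.map φ₀ ≫ hV.fromSpec = Spec.map φ ≫ hV.fromSpec := by
    rw [← Category.assoc, gen, ← Spec.map_comp, hφ₀]
  refine ⟨h1, ?_⟩
  obtain ⟨χ₁, hχ₁⟩ := DVRCrit.exists_factor hSa ((Spec.map φ₀ ≫ hV.fromSpec) ≫ pY) (by
    rintro _ ⟨p, rfl⟩
    rw [Scheme.Hom.comp_apply]
    exact hVS (hV.range_fromSpec.le ⟨_, by rw [← Scheme.Hom.comp_apply]⟩))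
  obtain ⟨χ₂, hχ₂⟩ := DVRCrit.exists_factor hSa (X.fromSpecStalk x ≫ pX) (by
    refine DVRCrit.range_subset_of_closedPoint (R := X.presheaf.stalk x) _ ?_
    rw [Scheme.Hom.comp_apply]
    erw [Scheme.fromSpecStalk_closedPoint]
    exact hxS)
  rw [hχ₁, hχ₂]
  congr 2
  have h2 : Spec.map (χ₁ ≫ CommRingCat.ofHom (algebraMap (X.presheaf.stalk x) (Kx x))) ≫ hSa.fromSpec =
      Spec.map (χ₂ ≫ CommRingCat.ofHom (algebraMap (X.presheaf.stalk x) (Kx x))) ≫ hSa.fromSpec := by
    rw [Spec.map_comp, Spec.map_comp, Category.assoc, Category.assoc, ← hχ₁, ← hχ₂]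
    show gen x ≫ _ = gen x ≫ _
    rw [← Category.assoc, h1, hφS, genι, Category.assoc]
  have h3 := DVRCrit.fromSpec_inj hSa h2
  ext a
  exact IsFractionRing.injective (X.presheaf.stalk x) (Kx x) (ConcreteCategory.congr_hom h3 a)

end Groth.Agent.RatNormal
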