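import Mathlib

/-!
Gluing two morphisms on opens.
-/

set_option autoImplicit false

open CategoryTheory CategoryTheory.Limits AlgebraicGeometry

universe u

namespace Groth.Agent.RatNormal

theorem exists_glue {X Y : Scheme.{u}} (U V : X.Opens) (a : (U : Scheme.{u}) ⟶ Y)
    (b : (V : Scheme.{u}) ⟶ Y)
    (h : X.homOfLE (inf_le_right : U ⊓ V ≤ V) ≫ b = X.homOfLE (inf_le_left : U ⊓ V ≤ U) ≫ a) :
    ∃ (W : X.Opens) (hU : U ≤ W) (hV : V ≤ W) (c : (W : Scheme.{u}) ⟶ Y),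
      W = U ⊔ V ∧ X.homOfLE hU ≫ c = a ∧ X.homOfLE hV ≫ c = b ∧
        ∀ {Z : Scheme.{u}} (c₁ c₂ : (W : Scheme.{u}) ⟶ Z), X.homOfLE hU ≫ c₁ = X.homOfLE hU ≫ c₂ →
          X.homOfLE hV ≫ c₁ = X.homOfLE hV ≫ c₂ → c₁ = c₂ := by
  let F : Bool → X.Opens := fun t => bif t then U else V
  let f : ∀ t, (F t).toScheme ⟶ Y := fun t => match t with
    | true => a
    | false => b
  let 𝒰 := Scheme.Opens.iSupOpenCover F
  have key : ∀ s t, X.homOfLE (inf_le_left : F s ⊓ F t ≤ F s) ≫ f s =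
      X.homOfLE (inf_le_right : F s ⊓ F t ≤ F t) ≫ f t := by
    intro s t
    cases s <;> cases t
    · rfl
    · show X.homOfLE (inf_le_left : V ⊓ U ≤ V) ≫ b = X.homOfLE (inf_le_right : V ⊓ U ≤ U) ≫ a
      rw [← X.homOfLE_homOfLE (inf_comm V U).le (inf_le_right : U ⊓ V ≤ V), Category.assoc, h,
        ← Category.assoc, X.homOfLE_homOfLE]
    · exact h.symm
    · rfl
  have hc : ∀ (s t : Bool), pullback.fst (X.homOfLE (le_iSup F s)) (X.homOfLE (le_iSup F t)) ≫ f s =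
      pullback.snd (X.homOfLE (le_iSup F s)) (X.homOfLE (le_iSup F t)) ≫ f t := fun s t => by
    rw [← cancel_epi (isPullback_opens_inf_le (le_iSup F s) (le_iSup F t)).isoPullback.hom,
      IsPullback.isoPullback_hom_fst_assoc, IsPullback.isoPullback_hom_snd_assoc]
    exact key s t
  let c := 𝒰.glueMorphisms f hc
  refine ⟨⨆ t, F t, le_iSup F true, le_iSup F false, c, ?_, 𝒰.ι_glueMorphisms f _ true,
    𝒰.ι_glueMorphisms f _ false, fun c₁ c₂ h₁ h₂ => 𝒰.hom_ext _ _ fun s => by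
      cases s
      · exact h₂
      · exact h₁⟩
  rw [iSup_bool_eq]
  rfl

end Groth.Agent.RatNormal
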