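import Groth.Agent.RatNormal.Isolated
import Groth.Agent.RatNormal.Glue
import Mathlib

/-!
Extension of sections to a normal point, tested by discrete valuation rings.
-/

set_option autoImplicit false

open CategoryTheory CategoryTheory.Limits AlgebraicGeometry IsLocalRing

universe u

set_option backward.isDefEq.respectTransparency false
set_option backward.defeqAttrib.useBackward true

namespace Groth.Agent.RatNormal

/-- In a Noetherian sober space a point of the closure of a locally closed set is a specialization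
of one of its points. -/
theorem exists_specializes_of_mem_closure {α : Type u} [TopologicalSpace α]
    [TopologicalSpace.NoetherianSpace α] [QuasiSober α] (C G : Set α) (hC : IsClosed C) (hG : IsOpen G)
    {x : α} (hx : x ∈ closure (C ∩ G)) : ∃ w ∈ C ∩ G, w ⤳ x := by
  obtain ⟨S, hSf, hSc, hSi, hSU⟩ :=
    TopologicalSpace.NoetherianSpace.exists_finite_set_isClosed_irreducible hC
  let S' := {Z ∈ S | (Z ∩ G).Nonempty}
  have hsub : C ∩ G ⊆ ⋃₀ S' := fun d ⟨hdC, hdG⟩ => by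
    rw [hSU] at hdC
    obtain ⟨Z, hZ, hdZ⟩ := hdC
    exact ⟨Z, ⟨hZ, d, hdZ, hdG⟩, hdZ⟩
  have hS'f : S'.Finite := hSf.subset fun Z hZ => hZ.1
  have hcl : IsClosed (⋃₀ S') := by
    rw [Set.sUnion_eq_biUnion]
    exact hS'f.isClosed_biUnion fun Z hZ => hSc Z hZ.1
  obtain ⟨Z, ⟨hZS, d, hdZ, hdG⟩, hxZ⟩ := closure_minimal hsub hcl hx
  obtain ⟨w, hw⟩ := QuasiSober.sober (hSi Z hZS) (hSc Z hZS)
  refine ⟨w, ⟨?_, (hw.specializes hdZ).mem_open hG hdG⟩, hw.specializes hxZ⟩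
  rw [hSU]
  exact ⟨Z, hZS, hw.mem⟩

variable {X : Scheme.{u}} (x : X) [IsDomain (X.presheaf.stalk x)]

theorem not_isField_stalk {W : X.Opens} [IsIntegral W.toScheme] (hxW : x ∈ W) {U : X.Opens}
    (hU : Dense (U : Set X)) (hxU : x ∉ U) : ¬ IsField (X.presheaf.stalk x) := by
  intro hF
  obtain ⟨t⟩ : Nonempty (Spec (CommRingCat.of (Kx x))) := inferInstance
  apply hxU
  have h1 : gen x t = closedPoint (X.presheaf.stalk x) := by
    haveI := (gen x t).isPrime
    refine PrimeSpectrum.ext ?_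
    show (gen x t).asIdeal = maximalIdeal _
    exact le_antisymm (le_maximalIdeal (gen x t).isPrime.ne_top)
      ((isField_iff_maximalIdeal_eq.1 hF).le.trans bot_le)
  have h2 : genι x t = x := by
    show (gen x ≫ X.fromSpecStalk x) t = x
    rw [Scheme.Hom.comp_apply, h1]
    erw [Scheme.fromSpecStalk_closedPoint]
  rw [← h2]
  exact genι_mem x hxW U hU t

/-- The trait given by a valuation ring dominating the local ring, with generic point in `U`. -/
theorem exists_trait (R : ValuationSubring (Kx x)) [IsDiscreteValuationRing R]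
    (h1 : ∀ a, algebraMap (X.presheaf.stalk x) (Kx x) a ∈ R)
    (h2 : ∀ a, algebraMap (X.presheaf.stalk x) (Kx x) a ∈ R.nonunits ↔ a ∈ maximalIdeal (X.presheaf.stalk x))
    {U : X.Opens} (hU : ∀ t, genι x t ∈ U) :
    Spec.map (CommRingCat.ofHom ((algebraMap (X.presheaf.stalk x) (Kx x)).codRestrict R.toSubring h1))
        (closedPoint R) = closedPoint (X.presheaf.stalk x) ∧
    (Spec.map (CommRingCat.ofHom ((algebraMap (X.presheaf.stalk x) (Kx x)).codRestrict R.toSubring h1)) ≫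
      X.fromSpecStalk x) (closedPoint R) = x ∧
    (Spec.map (CommRingCat.ofHom (FractionRing.algEquiv R (Kx x)).symm.toRingEquiv.toRingHom) ≫
        genLift x U hU) ≫ U.ι =
      Spec.map (CommRingCat.ofHom (algebraMap R (FractionRing R))) ≫
        Spec.map (CommRingCat.ofHom ((algebraMap (X.presheaf.stalk x) (Kx x)).codRestrict R.toSubring h1)) ≫
          X.fromSpecStalk x := by
  let f := (algebraMap (X.presheaf.stalk x) (Kx x)).codRestrict R.toSubring h1
  haveI : IsLocalHom f := ⟨fun a ha => by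
    by_contra hna
    have h3 : algebraMap (X.presheaf.stalk x) (Kx x) a ∈ R.nonunits := (h2 a).2 hna
    exact (ValuationSubring.coe_mem_nonunits_iff (a := f a)).1 h3 ha⟩
  have hc : Spec.map (CommRingCat.ofHom f) (closedPoint R) = closedPoint (X.presheaf.stalk x) :=
    comap_closedPoint f
  refine ⟨hc, ?_, ?_⟩
  · rw [Scheme.Hom.comp_apply]
    exact (congrArg _ hc).trans (X.fromSpecStalk_closedPoint (x := x))
  · rw [Category.assoc, genLift_ι, genι, gen, ← Spec.map_comp_assoc, ← Spec.map_comp_assoc]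
    congr 2
    ext a
    exact (FractionRing.algEquiv R (Kx x)).symm.commutes (f a)

/-- A section extending over a neighbourhood lifts every trait. -/
theorem exists_lift_of_section {Y : Scheme.{u}} (q : Y ⟶ X) {U U' : X.Opens} (hUU' : U ≤ U')
    (hxU' : x ∈ U') (h : (U : Scheme.{u}) ⟶ Y) (h' : (U' : Scheme.{u}) ⟶ Y) (hh' : h' ≫ q = U'.ι)
    (he : X.homOfLE hUU' ≫ h' = h)
    (R : Type u) [CommRing R] [IsDomain R] [IsLocalRing R]
    (u : Spec (CommRingCat.of R) ⟶ X) (hu : u (closedPoint R) = x)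
    (ub : Spec (CommRingCat.of (FractionRing R)) ⟶ (U : Scheme.{u}))
    (hub : ub ≫ U.ι = Spec.map (CommRingCat.ofHom (algebraMap R (FractionRing R))) ≫ u) :
    ∃ h₁ : Spec (CommRingCat.of R) ⟶ Y, h₁ ≫ q = u ∧ h₁ (closedPoint R) = h' ⟨x, hxU'⟩ ∧
      Spec.map (CommRingCat.ofHom (algebraMap R (FractionRing R))) ≫ h₁ = ub ≫ h := by
  let u' := IsOpenImmersion.lift U'.ι u (by
    rw [Scheme.Opens.range_ι]
    exact DVRCrit.range_subset_of_closedPoint u (by rw [hu]; exact hxU'))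
  have hu' : u' ≫ U'.ι = u := IsOpenImmersion.lift_fac _ _ _
  refine ⟨u' ≫ h', by rw [Category.assoc, hh', hu'], ?_, ?_⟩
  · rw [Scheme.Hom.comp_apply]
    congr 1
    refine U'.ι.isOpenEmbedding.injective ?_
    rw [← Scheme.Hom.comp_apply, hu', hu]
    rfl
  · rw [← he, ← Category.assoc, ← Category.assoc]
    congr 1
    rw [← cancel_mono U'.ι, Category.assoc, hu', Category.assoc, Scheme.homOfLE_ι, hub]

section

variable {Y : Scheme.{u}} [IsLocallyNoetherian X] (q : Y ⟶ X) [LocallyOfFiniteType q]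
  [IsIntegrallyClosed (X.presheaf.stalk x)]
  {U : X.Opens} (hU : Dense (U : Set X)) (h : (U : Scheme.{u}) ⟶ Y) (hh : h ≫ q = U.ι) (hxU : x ∉ U)

include hU hh hxU in
theorem exists_trait_of_extends (hext : ∃ (U' : X.Opens) (hUU' : U ≤ U') (h' : (U' : Scheme.{u}) ⟶ Y),
      x ∈ U' ∧ h' ≫ q = U'.ι ∧ X.homOfLE hUU' ≫ h' = h) :
    ∃ (R : Type u) (_ : CommRing R) (_ : IsDomain R) (_ : IsDiscreteValuationRing R)
        (u : Spec (CommRingCat.of R) ⟶ X) (ub : Spec (CommRingCat.of (FractionRing R)) ⟶ (U : Scheme.{u}))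
        (h₁ : Spec (CommRingCat.of R) ⟶ Y),
        u (IsLocalRing.closedPoint R) = x ∧
          ub ≫ U.ι = Spec.map (CommRingCat.ofHom (algebraMap R (FractionRing R))) ≫ u ∧
          h₁ ≫ q = u ∧ Spec.map (CommRingCat.ofHom (algebraMap R (FractionRing R))) ≫ h₁ = ub ≫ h := by
  obtain ⟨W, hxW, hW⟩ := AffLim.exists_isIntegral_nhd x
  haveI := hW
  obtain ⟨R, hR, h1, h2⟩ := DomDVR.exists_dvr_dominating (not_isField_stalk x hxW hU hxU) (Kx x)
  haveI := hR
  have h2' : ∀ a, algebraMap (X.presheaf.stalk x) (Kx x) a ∈ R.nonunits ↔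
      a ∈ maximalIdeal (X.presheaf.stalk x) := fun a => ⟨fun ha => by
    by_contra hna
    have hu := (show IsUnit a from not_not.1 hna).map
      ((algebraMap (X.presheaf.stalk x) (Kx x)).codRestrict R.toSubring h1)
    exact (ValuationSubring.coe_mem_nonunits_iff (a := ((algebraMap (X.presheaf.stalk x) (Kx x)).codRestrict
      R.toSubring h1) a)).1 ha hu, h2 a⟩
  have hmem := genι_mem x hxW U hU
  obtain ⟨-, hu, hub⟩ := exists_trait x R h1 h2' hmem
  obtain ⟨U', hUU', h', hxU', hh', he⟩ := hext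
  obtain ⟨h₁, e₁, -, e₂⟩ := exists_lift_of_section x q hUU' hxU' h h' hh' he R _ hu _ hub
  exact ⟨R, inferInstance, inferInstance, hR, _, _, h₁, hu, hub, e₁, e₂⟩

include hU hh in
theorem extends_of_trait [IsSeparated q] [LocallyQuasiFinite q]
    (R : Type u) [CommRing R] [IsDomain R] [IsLocalRing R]
    (u : Spec (CommRingCat.of R) ⟶ X) (ub : Spec (CommRingCat.of (FractionRing R)) ⟶ (U : Scheme.{u}))
    (h₁ : Spec (CommRingCat.of R) ⟶ Y) (hu : u (IsLocalRing.closedPoint R) = x)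
    (hub : ub ≫ U.ι = Spec.map (CommRingCat.ofHom (algebraMap R (FractionRing R))) ≫ u)
    (hq : h₁ ≫ q = u)
    (hgen : Spec.map (CommRingCat.ofHom (algebraMap R (FractionRing R))) ≫ h₁ = ub ≫ h) :
    ∃ (U' : X.Opens) (hUU' : U ≤ U') (h' : (U' : Scheme.{u}) ⟶ Y),
      x ∈ U' ∧ h' ≫ q = U'.ι ∧ X.homOfLE hUU' ≫ h' = h := by
  obtain ⟨W, hxW, hW⟩ := AffLim.exists_isIntegral_nhd x
  haveI := hW
  have hmem := genι_mem x hxW U hU
  let y₀ := h₁ (closedPoint R)
  have hy₀ : q y₀ = x := by rw [← Scheme.Hom.comp_apply, hq, hu]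
  let hK := genLift x U hmem ≫ h
  have hKS : hK ≫ q = genι x ≫ 𝟙 X := by
    rw [Category.assoc, hh, genLift_ι, Category.comp_id]
  have hKy : ∀ t, hK t ⤳ y₀ := fun t => by
    obtain ⟨s⟩ : Nonempty (Spec (CommRingCat.of (FractionRing R))) := inferInstance
    have h3 : h (ub s) ⤳ y₀ := by
      rw [← Scheme.Hom.comp_apply, ← hgen, Scheme.Hom.comp_apply]
      exact (specializes_closedPoint (R := R) _).map h₁.continuous
    have h4 : U.ι (ub s) ⤳ x := by
      rw [← Scheme.Hom.comp_apply, hub, Scheme.Hom.comp_apply, ← hu]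
      exact (specializes_closedPoint (R := R) _).map u.continuous
    have h5 : genLift x U hmem t ⤳ ub s := by
      refine U.ι.isOpenEmbedding.isInducing.specializes_iff.1 ?_
      rw [← Scheme.Hom.comp_apply, genLift_ι]
      exact genι_specializes x t h4
    exact (h5.map h.continuous).trans h3
  haveI : IsIso (pullback.snd (𝟙 X) q) := inferInstance
  let e := pullback.snd (𝟙 X) q
  let z := inv e y₀
  have hez : e z = y₀ := by rw [← Scheme.Hom.comp_apply, IsIso.inv_hom_id]; rfl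
  have hfst : ∀ p, pullback.fst (𝟙 X) q p = q (e p) := fun p => by
    rw [← Scheme.Hom.comp_apply, ← pullback.condition, Category.comp_id]
  have hzΓ : ∀ t, pullback.lift (genι x) hK hKS.symm t ⤳ z := fun t => by
    refine e.isEmbedding.isInducing.specializes_iff.1 ?_
    rw [hez, ← Scheme.Hom.comp_apply, pullback.lift_snd]
    exact hKy t
  obtain ⟨O, hO, hOy⟩ : ∃ O : Set Y, IsOpen O ∧ O ∩ q ⁻¹' {x} = {y₀} := by
    obtain ⟨⟨O, hO, hO'⟩⟩ : Nonempty {O : Set Y // IsOpen O ∧ O ∩ q ⁻¹' {x} = {y₀}} :=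
      (isDiscrete_iff_forall_exists_isOpen.1 (q.isDiscrete_preimage_singleton x) y₀ hy₀).elim
        fun O hO => ⟨⟨O, hO⟩⟩
    exact ⟨O, hO, hO'⟩
  obtain ⟨V, hxV, v, hVW, hv, hvgen, -⟩ := exists_extension_of_isolated (𝟙 X) q x hxW hK hKS z
    (by rw [hfst, hez, hy₀]) hzΓ ⟨e ⁻¹ᵁ ⟨O, hO⟩, ((Set.ext_iff.1 hOy (e z)).2 hez).1, fun p hp hpx _ => by
      refine e.isEmbedding.injective ((Set.ext_iff.1 hOy (e p)).1 ⟨hp, ?_⟩ |>.trans hez.symm)
      show q (e p) = x
      rw [← hfst]; exact hpx⟩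
  have hmemV : ∀ t, genι x t ∈ V := fun t => (genι_specializes_self x t).mem_open V.2 hxV
  have hag := agree x (𝟙 X) q hxW (inf_le_right.trans hVW) hmem hmemV h (by rw [hh, Category.comp_id]) v hv
    (hvgen _).symm
  obtain ⟨W', hUW', hVW', c, -, hc1, hc2, hext⟩ := exists_glue U V h v hag
  refine ⟨W', hUW', c, hVW' hxV, hext _ _ ?_ ?_, hc1⟩
  · rw [← Category.assoc, hc1, hh, Scheme.homOfLE_ι]
  · rw [← Category.assoc, hc2, hv, Category.comp_id, Scheme.homOfLE_ι]

include hU hh hxU in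
theorem extends_of_forall_trait (y₀ : Y) (hy₀ : q y₀ = x)
    (H : ∀ (R : Type u) [CommRing R] [IsDomain R] [IsDiscreteValuationRing R]
        (u : Spec (CommRingCat.of R) ⟶ X), u (IsLocalRing.closedPoint R) = x →
        ∀ ub : Spec (CommRingCat.of (FractionRing R)) ⟶ (U : Scheme.{u}),
          ub ≫ U.ι = Spec.map (CommRingCat.ofHom (algebraMap R (FractionRing R))) ≫ u →
          ∃ h₁ : Spec (CommRingCat.of R) ⟶ Y, h₁ ≫ q = u ∧ h₁ (IsLocalRing.closedPoint R) = y₀ ∧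
            Spec.map (CommRingCat.ofHom (algebraMap R (FractionRing R))) ≫ h₁ = ub ≫ h) :
    ∃ (U' : X.Opens) (hUU' : U ≤ U') (hxU' : x ∈ U') (h' : (U' : Scheme.{u}) ⟶ Y),
      h' ≫ q = U'.ι ∧ X.homOfLE hUU' ≫ h' = h ∧ h' ⟨x, hxU'⟩ = y₀ := by
  obtain ⟨W, hxW, hW⟩ := AffLim.exists_isIntegral_nhd x
  haveI := hW
  let O := X.presheaf.stalk x
  have hmem := genι_mem x hxW U hU
  obtain ⟨_, ⟨Sa : X.Opens, hSa, rfl⟩, hxS, -⟩ :=
    X.isBasis_affineOpens.exists_subset_of_mem_open (Set.mem_univ x) isOpen_univ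
  obtain ⟨_, ⟨Vy : Y.Opens, hVy, rfl⟩, hyV, hVS⟩ :=
    Y.isBasis_affineOpens.exists_subset_of_mem_open
      (show y₀ ∈ (q ⁻¹ᵁ Sa : Y.Opens) by show q _ ∈ Sa; rw [hy₀]; exact hxS) (q ⁻¹ᵁ Sa).2
  let hK := genLift x U hmem ≫ h
  have hKS : hK ≫ q = genι x ≫ 𝟙 X := by
    rw [Category.assoc, hh, genLift_ι, Category.comp_id]
  -- every dominating trait
  have htr : ∀ (R : ValuationSubring (Kx x)) [IsDiscreteValuationRing R]
      (h1 : ∀ a, algebraMap O (Kx x) a ∈ R)
      (h2 : ∀ a, algebraMap O (Kx x) a ∈ R.nonunits ↔ a ∈ maximalIdeal O),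
      ∃ χ : Γ(Y, Vy) ⟶ CommRingCat.of R,
        hK = Spec.map (χ ≫ CommRingCat.ofHom R.subtype) ≫ hVy.fromSpec ∧
        hVy.fromSpec (Spec.map χ (closedPoint R)) = y₀ := by
    intro R _ h1 h2
    obtain ⟨-, hu, hub⟩ := exists_trait x R h1 h2 hmem
    obtain ⟨h₁, -, hcl, hg⟩ := H R _ hu _ hub
    obtain ⟨χ, hχ⟩ := DVRCrit.exists_factor hVy h₁
      (DVRCrit.range_subset_of_closedPoint (R := R) h₁ (by rw [hcl]; exact hyV))
    refine ⟨χ, ?_, ?_⟩
    · let e := (FractionRing.algEquiv R (Kx x)).toRingEquiv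
      rw [← cancel_epi (Spec.map (CommRingCat.ofHom e.symm.toRingHom))]
      refine (Category.assoc _ _ _).symm.trans (hg.symm.trans ?_)
      rw [hχ, ← Spec.map_comp_assoc, ← Spec.map_comp_assoc]
      congr 2
      ext a
      exact ((FractionRing.algEquiv R (Kx x)).symm.commutes (χ a)).symm
    · rw [← Scheme.Hom.comp_apply, ← hχ]
      exact hcl
  obtain ⟨R₀, hR₀, h10, h20⟩ := DomDVR.exists_dvr_dominating (not_isField_stalk x hxW hU hxU) (Kx x)
  haveI := hR₀
  have h20' : ∀ a, algebraMap O (Kx x) a ∈ R₀.nonunits ↔ a ∈ maximalIdeal O := fun a => ⟨fun ha => by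
    by_contra hna
    have hu := (show IsUnit a from not_not.1 hna).map
      ((algebraMap O (Kx x)).codRestrict R₀.toSubring h10)
    exact (ValuationSubring.coe_mem_nonunits_iff (a := ((algebraMap O (Kx x)).codRestrict
      R₀.toSubring h10) a)).1 ha hu, h20 a⟩
  obtain ⟨χ₀, hχ₀, hcl₀⟩ := htr R₀ h10 h20'
  let φ : Γ(Y, Vy) ⟶ CommRingCat.of (Kx x) := χ₀ ≫ CommRingCat.ofHom R₀.subtype
  have hb : ∀ b : Γ(Y, Vy), φ b ∈ (algebraMap O (Kx x)).range := fun b => by
    refine mem_range_of_forall_dominating _ fun R hR h1 h2 => ?_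
    haveI := hR
    obtain ⟨χ, hχ, -⟩ := htr R h1 h2
    have h3 := DVRCrit.fromSpec_inj hVy (hχ₀.symm.trans hχ)
    show φ b ∈ R
    rw [show φ = χ ≫ CommRingCat.ofHom R.subtype from h3]
    exact (χ b).2
  let eO : O ≃+* (algebraMap O (Kx x)).range :=
    RingEquiv.ofBijective (algebraMap O (Kx x)).rangeRestrict
      ⟨fun a b h => IsFractionRing.injective O (Kx x) (congrArg Subtype.val h),
        RingHom.rangeRestrict_surjective _⟩
  let φ₀ : Γ(Y, Vy) ⟶ O := CommRingCat.ofHom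
    (eO.symm.toRingHom.comp (φ.hom.codRestrict (algebraMap O (Kx x)).range hb))
  have hφ₀ : φ₀ ≫ CommRingCat.ofHom (algebraMap O (Kx x)) = φ := by
    ext b
    exact congrArg Subtype.val (eO.apply_symm_apply (φ.hom.codRestrict (algebraMap O (Kx x)).range hb b))
  obtain ⟨hg₁, hg₂⟩ := exists_hom_specStalk x (𝟙 X) q hSa hxS hVy hVS φ (by rw [← hχ₀, hKS]) φ₀ hφ₀
  obtain ⟨V, hxV, v, hVW, hv, hvg, hvgen⟩ := exists_extension x (𝟙 X) q hxW _ hg₂
  have hvx : v ⟨x, hxV⟩ = y₀ := by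
    have h1 : V.fromSpecStalkOfMem x hxV (closedPoint O) = ⟨x, hxV⟩ := by
      refine V.ι.isOpenEmbedding.injective ?_
      rw [← Scheme.Hom.comp_apply, Scheme.Opens.fromSpecStalkOfMem_ι]
      erw [Scheme.fromSpecStalk_closedPoint]
      rfl
    rw [← h1, ← Scheme.Hom.comp_apply, hvg, Scheme.Hom.comp_apply, ← hcl₀]
    congr 1
    refine PrimeSpectrum.ext (Ideal.ext fun b => ?_)
    show φ₀ b ∈ maximalIdeal O ↔ χ₀ b ∈ maximalIdeal R₀
    rw [← h20' (φ₀ b), show algebraMap O (Kx x) (φ₀ b) = (χ₀ b : Kx x) from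
      ConcreteCategory.congr_hom hφ₀ b]
    exact ValuationSubring.coe_mem_nonunits_iff
  -- the set of points where the two maps may differ does not adhere to `x`
  let V₁ : X.Opens := V.ι ''ᵁ (v ⁻¹ᵁ Vy)
  have hxV₁ : x ∈ V₁ := ⟨⟨x, hxV⟩, by show v _ ∈ Vy; rw [hvx]; exact hyV, rfl⟩
  have hV₁V : V₁ ≤ V := V.ι_image_le _
  let U₁ : X.Opens := U.ι ''ᵁ (h ⁻¹ᵁ Vy)
  obtain ⟨_, ⟨A : X.Opens, hA, rfl⟩, hxA, -⟩ :=
    X.isBasis_affineOpens.exists_subset_of_mem_open (Set.mem_univ x) isOpen_univ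
  haveI : IsNoetherianRing Γ(X, A) := IsLocallyNoetherian.component_noetherian ⟨A, hA⟩
  haveI : TopologicalSpace.NoetherianSpace A := noetherianSpace_of_isAffineOpen A hA
  let D : Set X := ((U : Set X) ∩ V₁) \ U₁
  have hxD : x ∉ closure D := by
    intro hxcl
    let A' : A.toScheme.Opens := A.ι ⁻¹ᵁ U₁
    have hx' : (⟨x, hxA⟩ : A.toScheme) ∈ closure ((A.ι ⁻¹' (U₁ : Set X))ᶜ ∩ A.ι ⁻¹' ((U : Set X) ∩ V₁)) := by
      rw [Set.inter_comm, ← Set.diff_eq, ← Set.preimage_sdiff,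
        ← A.ι.isOpenEmbedding.isOpenMap.preimage_closure_eq_closure_preimage A.ι.continuous]
      exact hxcl
    obtain ⟨w', ⟨hwU₁, hwU, hwV⟩, hw⟩ := exists_specializes_of_mem_closure (α := A.toScheme) _ _
      ((U₁.2.preimage A.ι.continuous).isClosed_compl) ((U.2.inter V₁.2).preimage A.ι.continuous) hx'
    let w := A.ι w'
    have hwx : w ⤳ x := hw.map A.ι.continuous
    have hne : x ≠ w := fun e => hxU (e ▸ hwU)
    obtain ⟨B, u, hB, hu, hgen⟩ := DVRCrit.exists_dvr_residueField (𝟙 X) w x hwx hne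
    haveI := hB
    rw [Category.comp_id] at hgen
    let e := (FractionRing.algEquiv B (X.residueField w)).symm
    let ub := IsOpenImmersion.lift U.ι
      (Spec.map (CommRingCat.ofHom e.toRingEquiv.toRingHom) ≫ X.fromSpecResidueField w) (by
        rintro _ ⟨s, rfl⟩
        rw [Scheme.Opens.range_ι, Scheme.Hom.comp_apply]
        erw [Scheme.fromSpecResidueField_apply]
        exact hwU)
    have hub : ub ≫ U.ι = Spec.map (CommRingCat.ofHom (algebraMap B (FractionRing B))) ≫ u := by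
      rw [IsOpenImmersion.lift_fac, ← hgen, ← Spec.map_comp_assoc]
      congr 2
      ext a
      exact e.commutes a
    obtain ⟨h₁, -, hcl, hg⟩ := H B u hu ub hub
    obtain ⟨s⟩ : Nonempty (Spec (CommRingCat.of (FractionRing B))) := inferInstance
    apply hwU₁
    refine ⟨ub s, ?_, ?_⟩
    · show h (ub s) ∈ Vy
      rw [← Scheme.Hom.comp_apply, ← hg, Scheme.Hom.comp_apply]
      exact DVRCrit.range_subset_of_closedPoint (R := B) h₁ (by rw [hcl]; exact hyV) ⟨_, rfl⟩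
    · show U.ι (ub s) = w
      rw [← Scheme.Hom.comp_apply, IsOpenImmersion.lift_fac, Scheme.Hom.comp_apply]
      erw [Scheme.fromSpecResidueField_apply]
  let V₂ : X.Opens := V₁ ⊓ ⟨(closure D)ᶜ, isClosed_closure.isOpen_compl⟩
  have hxV₂ : x ∈ V₂ := ⟨hxV₁, hxD⟩
  have hV₂ : V₂ ≤ V := inf_le_left.trans hV₁V
  have hmemV₂ : ∀ t, genι x t ∈ V₂ := fun t => (genι_specializes_self x t).mem_open V₂.2 hxV₂
  haveI : IsAffine Vy.toScheme := hVy
  haveI : IsSeparated (Vy.ι ≫ q) := IsSeparated.of_comp (Vy.ι ≫ q) (terminal.from X)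
  let a := IsOpenImmersion.lift Vy.ι (X.homOfLE (inf_le_left : U ⊓ V₂ ≤ U) ≫ h) (by
    rintro _ ⟨p, rfl⟩
    rw [Scheme.Opens.range_ι, Scheme.Hom.comp_apply]
    by_contra hp
    refine p.2.2.2 (subset_closure ⟨⟨p.2.1, p.2.2.1⟩, ?_⟩)
    rintro ⟨p', hp', e⟩
    refine hp ?_
    rwa [show X.homOfLE (inf_le_left : U ⊓ V₂ ≤ U) p = p' from
      U.ι.isOpenEmbedding.injective (by rw [← Scheme.Hom.comp_apply, Scheme.homOfLE_ι]; exact e.symm)])
  let b := IsOpenImmersion.lift Vy.ι (X.homOfLE (inf_le_right.trans hV₂ : U ⊓ V₂ ≤ V) ≫ v) (by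
    rintro _ ⟨p, rfl⟩
    rw [Scheme.Opens.range_ι, Scheme.Hom.comp_apply]
    obtain ⟨p', hp', e⟩ := p.2.2.1
    rwa [show X.homOfLE (inf_le_right.trans hV₂ : U ⊓ V₂ ≤ V) p = p' from
      V.ι.isOpenEmbedding.injective (by rw [← Scheme.Hom.comp_apply, Scheme.homOfLE_ι]; exact e.symm)])
  have ha : a ≫ Vy.ι = _ := IsOpenImmersion.lift_fac _ _ _
  have hb' : b ≫ Vy.ι = _ := IsOpenImmersion.lift_fac _ _ _
  have hab : b = a := agree_self x (Vy.ι ≫ q) hxW ((inf_le_right.trans hV₂).trans hVW)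
    (fun t => ⟨hmem t, hmemV₂ t⟩) b a
    (by rw [← Category.assoc, ← Category.assoc, ha, hb', Category.assoc, Category.assoc, hv, hh,
      Category.comp_id, Scheme.homOfLE_ι, Scheme.homOfLE_ι])
    (by rw [← cancel_mono Vy.ι, Category.assoc, Category.assoc, ha, hb', ← Category.assoc,
          ← Category.assoc, genLift_homOfLE, genLift_homOfLE, hvgen, hg₁]
        exact hχ₀.symm)
  obtain ⟨W', hUW', hVW', c, -, hc1, hc2, hext⟩ := exists_glue U V₂ h (X.homOfLE hV₂ ≫ v) (by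
    rw [← Category.assoc, X.homOfLE_homOfLE, ← ha, ← hb', hab])
  refine ⟨W', hUW', hVW' hxV₂, c, hext _ _ ?_ ?_, hc1, ?_⟩
  · rw [← Category.assoc, hc1, hh, Scheme.homOfLE_ι]
  · rw [← Category.assoc, hc2, Category.assoc, hv, Category.comp_id, Scheme.homOfLE_ι, Scheme.homOfLE_ι]
  · have e1 : X.homOfLE hVW' ⟨x, hxV₂⟩ = ⟨x, hVW' hxV₂⟩ := by
      refine W'.ι.isOpenEmbedding.injective ?_
      rw [← Scheme.Hom.comp_apply, Scheme.homOfLE_ι]
      rfl
    have e2 : X.homOfLE hV₂ ⟨x, hxV₂⟩ = ⟨x, hxV⟩ := by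
      refine V.ι.isOpenEmbedding.injective ?_
      rw [← Scheme.Hom.comp_apply, Scheme.homOfLE_ι]
      rfl
    rw [← e1, ← Scheme.Hom.comp_apply, hc2, Scheme.Hom.comp_apply, e2]
    exact hvx

end

end Groth.Agent.RatNormal
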