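import Groth.Agent.DVRCrit.Centre
import Mathlib

/-!
Integrally closed local domains inside their fraction field.
-/

set_option autoImplicit false

open IsLocalRing

universe u

namespace Groth.Agent.RatNormal

/-- Zariski's main theorem: a birational algebra of finite type with an isolated point over the
closed point of an integrally closed local domain is contained in it. -/
theorem subalgebra_le_range {O K : Type u} [CommRing O] [IsDomain O] [IsLocalRing O]
    [IsIntegrallyClosed O] [Field K] [Algebra O K] [IsFractionRing O K] (C : Subalgebra O K)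
    [Algebra.FiniteType O C] (P : PrimeSpectrum C)
    (hP : P.asIdeal.comap (algebraMap O C) = maximalIdeal O)
    (hiso : ∃ G : Set (PrimeSpectrum C), IsOpen G ∧ P ∈ G ∧
      ∀ Q ∈ G, Q.asIdeal.comap (algebraMap O C) = maximalIdeal O → Q = P) (c : C) :
    (c : K) ∈ (algebraMap O K).range := by
  haveI : Algebra.QuasiFiniteAt O P.asIdeal := by
    refine Algebra.QuasiFiniteAt.of_isOpen_singleton_fiber P ?_
    obtain ⟨G, hG, hPG, hGP⟩ := hiso
    refine isOpen_induced_iff.2 ⟨G, hG, ?_⟩
    ext Q
    refine ⟨fun hQ => Subtype.ext (hGP Q.1 hQ ?_), fun hQ => by rw [hQ]; exact hPG⟩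
    exact (congrArg PrimeSpectrum.asIdeal (Q.2 : PrimeSpectrum.comap _ Q.1 = _)).trans hP
  obtain ⟨r, hrP, hr, hall⟩ := Algebra.zariskisMainProperty_iff.1
    (Algebra.ZariskisMainProperty.of_finiteType (R := O) P.asIdeal)
  have hint : ∀ y : C, IsIntegral O y → ∃ a : O, algebraMap O K a = y := fun y hy =>
    IsIntegrallyClosed.isIntegral_iff.1 (hy.map C.val)
  obtain ⟨a, ha⟩ := hint r hr
  have ha' : algebraMap O C a = r := Subtype.ext ha
  have hau : IsUnit a := by
    by_contra hau
    have : a ∈ P.asIdeal.comap (algebraMap O C) := hP.ge hau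
    exact hrP (ha' ▸ this)
  obtain ⟨m, hm⟩ := hall c
  obtain ⟨b, hb⟩ := hint _ hm
  refine ⟨b * ↑(hau.unit⁻¹) ^ m, ?_⟩
  have e : algebraMap O K ↑(hau.unit⁻¹) * algebraMap O K a = 1 := by
    rw [← map_mul, IsUnit.val_inv_mul, map_one]
  calc algebraMap O K (b * ↑(hau.unit⁻¹) ^ m)
      = (r : K) ^ m * c * algebraMap O K ↑(hau.unit⁻¹) ^ m := by
        rw [map_mul, map_pow, hb]; rfl
    _ = c := by
        rw [← ha, mul_comm ((algebraMap O K a) ^ m) (c : K), mul_assoc, ← mul_pow,
          mul_comm (algebraMap O K a), e, one_pow, mul_one]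

/-- An element lying in every discrete valuation ring dominating an integrally closed Noetherian
local domain lies in it. -/
theorem mem_range_of_forall_dominating {O K : Type u} [CommRing O] [IsDomain O] [IsLocalRing O]
    [IsNoetherianRing O] [IsIntegrallyClosed O] [Field K] [Algebra O K] [IsFractionRing O K] (x : K)
    (h : ∀ R : ValuationSubring K, IsDiscreteValuationRing R → (∀ a, algebraMap O K a ∈ R) →
      (∀ a, algebraMap O K a ∈ R.nonunits ↔ a ∈ maximalIdeal O) → x ∈ R) :
    x ∈ (algebraMap O K).range := by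
  classical
  by_contra hx
  have hx0 : x ≠ 0 := fun e => hx (e ▸ zero_mem _)
  have hess : (algebraMap O K).EssFiniteType :=
    RingHom.essFiniteType_algebraMap.2 (Algebra.EssFiniteType.of_isLocalization K (nonZeroDivisors O))
  let D : Subalgebra O K := Algebra.adjoin O {x⁻¹}
  let z : D := ⟨x⁻¹, Algebra.subset_adjoin rfl⟩
  have hz : Ideal.span {z} ≠ ⊤ := fun htop => by
    obtain ⟨b, hb⟩ := Ideal.mem_span_singleton'.mp (htop.ge (Submodule.mem_top : (1 : D) ∈ ⊤))
    have hb' : (b : K) * x⁻¹ = 1 := congrArg Subtype.val hb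
    have hbx : (b : K) = x := by rw [← mul_one (b : K), ← inv_mul_cancel₀ hx0, ← mul_assoc, hb', one_mul]
    have hxD : x ∈ D := by
      have := b.2
      rwa [hbx] at this
    exact hx (IsIntegrallyClosed.isIntegral_iff.1 (DVRCrit.isIntegral_of_mem_adjoin_inv hx0 hxD))
  obtain ⟨Q, hQ, hQz⟩ := Ideal.exists_le_maximal _ hz
  have hsurj : Function.Surjective ((Ideal.Quotient.mk Q).comp (algebraMap O D)) := by
    intro d
    obtain ⟨d, rfl⟩ := Ideal.Quotient.mk_surjective d
    obtain ⟨d, hd⟩ := d
    induction hd using Algebra.adjoin_induction with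
    | mem y hy =>
      obtain rfl := Set.mem_singleton_iff.1 hy
      exact ⟨0, by rw [map_zero]; exact (Ideal.Quotient.eq_zero_iff_mem.2 (hQz (Ideal.mem_span_singleton_self _))).symm⟩
    | algebraMap r => exact ⟨r, rfl⟩
    | add a b ha hb iha ihb =>
      obtain ⟨r, hr⟩ := iha
      obtain ⟨s, hs⟩ := ihb
      exact ⟨r + s, by rw [map_add, hr, hs, ← map_add]; rfl⟩
    | mul a b ha hb iha ihb =>
      obtain ⟨r, hr⟩ := iha
      obtain ⟨s, hs⟩ := ihb
      exact ⟨r * s, by rw [map_mul, hr, hs, ← map_mul]; rfl⟩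
  have hQm : Q.comap (algebraMap O D) = maximalIdeal O := by
    haveI := hQ
    refine IsLocalRing.eq_maximalIdeal ?_
    rw [show Q.comap (algebraMap O D) = RingHom.ker ((Ideal.Quotient.mk Q).comp (algebraMap O D)) by
      rw [RingHom.ker, ← Ideal.comap_comap, ← RingHom.ker_eq_comap_bot, Ideal.mk_ker]]
    letI : Field (D ⧸ Q) := Ideal.Quotient.field Q
    exact RingHom.ker_isMaximal_of_surjective _ hsurj
  haveI := hQ.isPrime
  obtain ⟨R, hR, h1, h2, h3⟩ := DVRCrit.exists_dvr_adjoin_inv (algebraMap O K) hess {x}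
    (Finset.singleton_nonempty x) (by simpa using hx0)
    (Q.comap (Subalgebra.inclusion (show Algebra.adjoin O ((fun a => a⁻¹) '' (({x} : Finset K) : Set K)) ≤ D by
      simp [D])).toRingHom) (fun d hd => by
      simp only [Finset.coe_singleton, Set.image_singleton, Set.mem_singleton_iff] at hd
      exact hQz (Ideal.mem_span_singleton'.2 ⟨1, by rw [one_mul]; exact Subtype.ext hd.symm⟩))
  refine h2 x (Finset.mem_singleton_self x) (h R hR h1 fun a => ?_)
  rw [h3 a, ← hQm]
  exact Iff.rfl

end Groth.Agent.RatNormal
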