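import Groth.Agent.RatNormal.Basic
import Groth.Agent.RatNormal.Algebra
import Mathlib

/-!
A rational map with an isolated point in the fibre of the closure of its graph over a normal point
is defined there.
-/

set_option autoImplicit false

open CategoryTheory CategoryTheory.Limits AlgebraicGeometry IsLocalRing
open scoped TensorProduct

universe u

set_option backward.isDefEq.respectTransparency false
set_option backward.defeqAttrib.useBackward true

namespace Groth.Agent.RatNormal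

theorem isPreimmersion_pullback_map {X Y S X' Y' S' : Scheme.{u}}
    (f : X ⟶ S) (g : Y ⟶ S) (f' : X' ⟶ S') (g' : Y' ⟶ S')
    (i₁ : X ⟶ X') (i₂ : Y ⟶ Y') (i₃ : S ⟶ S') (e₁ : f ≫ i₃ = i₁ ≫ f') (e₂ : g ≫ i₃ = i₂ ≫ g')
    [IsPreimmersion i₁] [IsPreimmersion i₂] [Mono i₃] :
    IsPreimmersion (pullback.map f g f' g' i₁ i₂ i₃ e₁ e₂) := by
  rw [pullback_map_eq_pullbackFstFstIso_inv]
  infer_instance

theorem asIdeal_eq_bot {K : Type u} [Field K] (t : Spec (CommRingCat.of K)) :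
    (t : PrimeSpectrum K).asIdeal = ⊥ :=
  (Ideal.eq_bot_or_top _).resolve_right t.isPrime.ne_top

theorem exists_extension_of_isolated {X Y S : Scheme.{u}} (pX : X ⟶ S) (pY : Y ⟶ S)
    [LocallyOfFiniteType pY] (x : X) [IsDomain (X.presheaf.stalk x)]
    [IsIntegrallyClosed (X.presheaf.stalk x)] {W : X.Opens} [IsIntegral W.toScheme] (hxW : x ∈ W)
    (hK : Spec (CommRingCat.of (Kx x)) ⟶ Y) (hKS : hK ≫ pY = genι x ≫ pX)
    (z : ↥(pullback pX pY)) (hz : pullback.fst pX pY z = x)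
    (hzΓ : ∀ t, pullback.lift (genι x) hK hKS.symm t ⤳ z)
    (hiso : ∃ G : (pullback pX pY).Opens, z ∈ G ∧ ∀ p ∈ G, pullback.fst pX pY p = x →
      (∀ t, pullback.lift (genι x) hK hKS.symm t ⤳ p) → p = z) :
    ∃ (V : X.Opens) (hxV : x ∈ V) (v : (V : Scheme.{u}) ⟶ Y), V ≤ W ∧ v ≫ pY = V.ι ≫ pX ∧
      (∀ h, genLift x V h ≫ v = hK) ∧ v ⟨x, hxV⟩ = pullback.snd pX pY z := by
  have hzS : pX x = pY (pullback.snd pX pY z) := by
    conv_lhs => rw [← hz]
    rw [← Scheme.Hom.comp_apply, pullback.condition, Scheme.Hom.comp_apply]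
  obtain ⟨_, ⟨Sa, hSa, rfl⟩, hxS, -⟩ :=
    S.isBasis_affineOpens.exists_subset_of_mem_open (Set.mem_univ (pX x)) isOpen_univ
  obtain ⟨_, ⟨Vy, hVy, rfl⟩, hzV, hVS⟩ :=
    Y.isBasis_affineOpens.exists_subset_of_mem_open
      (show pullback.snd pX pY z ∈ (pY ⁻¹ᵁ Sa : Y.Opens) by show pY _ ∈ Sa; rw [← hzS]; exact hxS)
      (pY ⁻¹ᵁ Sa).2
  obtain ⟨φ, hφ⟩ := DVRCrit.exists_factor hVy hK (by
    rintro _ ⟨t, rfl⟩
    refine Specializes.mem_open ?_ Vy.2 hzV
    have := (hzΓ t).map (pullback.snd pX pY).continuous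
    rwa [← Scheme.Hom.comp_apply, pullback.lift_snd] at this)
  obtain ⟨χ, hχ⟩ := DVRCrit.exists_factor hSa (X.fromSpecStalk x ≫ pX) (by
    refine DVRCrit.range_subset_of_closedPoint (R := X.presheaf.stalk x) _ ?_
    rw [Scheme.Hom.comp_apply]
    erw [Scheme.fromSpecStalk_closedPoint]
    exact hxS)
  let O := X.presheaf.stalk x
  let ψ := pY.appLE Sa Vy hVS
  letI : Algebra Γ(S, Sa) O := χ.hom.toAlgebra
  letI : Algebra Γ(S, Sa) Γ(Y, Vy) := ψ.hom.toAlgebra
  haveI : IsScalarTower Γ(S, Sa) O (Kx x) := inferInstance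
  have hcomm : ψ ≫ φ = χ ≫ CommRingCat.ofHom (algebraMap O (Kx x)) := by
    refine DVRCrit.fromSpec_inj hSa ?_
    rw [Spec.map_comp, Spec.map_comp, Category.assoc, Category.assoc,
      IsAffineOpen.SpecMap_appLE_fromSpec pY hSa hVy hVS, ← Category.assoc, ← hφ, hKS, ← hχ, genι, gen,
      Category.assoc]
  let φA : Γ(Y, Vy) →ₐ[Γ(S, Sa)] Kx x :=
    { φ.hom with commutes' := fun a => (ConcreteCategory.congr_hom hcomm a).trans (IsScalarTower.algebraMap_apply Γ(S, Sa) O (Kx x) a).symm }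
  haveI : Algebra.FiniteType Γ(S, Sa) Γ(Y, Vy) :=
    LocallyOfFiniteType.finiteType_appLE pY hSa hVy hVS
  let T := O ⊗[Γ(S, Sa)] Γ(Y, Vy)
  let τ : T →ₐ[O] Kx x := Algebra.TensorProduct.lift (Algebra.ofId O (Kx x)) φA fun _ _ => Commute.all _ _
  have e₁ : Spec.map (CommRingCat.ofHom (algebraMap Γ(S, Sa) O)) ≫ hSa.fromSpec =
      X.fromSpecStalk x ≫ pX := hχ.symm
  have e₂ : Spec.map (CommRingCat.ofHom (algebraMap Γ(S, Sa) Γ(Y, Vy))) ≫ hSa.fromSpec =
      hVy.fromSpec ≫ pY := IsAffineOpen.SpecMap_appLE_fromSpec pY hSa hVy hVS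
  let μ := pullback.map _ _ pX pY (X.fromSpecStalk x) hVy.fromSpec hSa.fromSpec e₁ e₂
  haveI : IsPreimmersion μ := isPreimmersion_pullback_map _ _ _ _ _ _ _ _ _
  obtain ⟨ι, hιdef⟩ : ∃ ι : Spec (CommRingCat.of T) ⟶ pullback pX pY,
      ι = (pullbackSpecIso Γ(S, Sa) O Γ(Y, Vy)).inv ≫ μ := ⟨_, rfl⟩
  haveI : IsPreimmersion ι := by rw [hιdef]; infer_instance
  have hι₁ : ι ≫ pullback.fst pX pY =
      Spec.map (CommRingCat.ofHom (algebraMap O T)) ≫ X.fromSpecStalk x := by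
    rw [hιdef, Category.assoc, pullback.lift_fst, ← Category.assoc, pullbackSpecIso_inv_fst']
  have hι₂ : ι ≫ pullback.snd pX pY =
      Spec.map (CommRingCat.ofHom (Algebra.TensorProduct.includeRight
        (R := Γ(S, Sa)) (A := O) (B := Γ(Y, Vy))).toRingHom) ≫ hVy.fromSpec := by
    rw [hιdef, Category.assoc, pullback.lift_snd, ← Category.assoc, pullbackSpecIso_inv_snd]
    rfl
  have hτ : ∀ b, τ ((1 : O) ⊗ₜ b) = φA b := fun b => by
    show Algebra.ofId O (Kx x) 1 * φA b = _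
    rw [map_one, one_mul]
  have hγ : pullback.lift (genι x) hK hKS.symm = Spec.map (CommRingCat.ofHom τ.toRingHom) ≫ ι := by
    apply pullback.hom_ext
    · rw [pullback.lift_fst, Category.assoc, hι₁, ← Category.assoc, ← Spec.map_comp, genι, gen]
      congr 2
      ext a
      exact (τ.commutes a).symm
    · rw [pullback.lift_snd, Category.assoc, hι₂, ← Category.assoc, ← Spec.map_comp, hφ]
      congr 2
      ext b
      exact (hτ b).symm
  obtain ⟨w, hw⟩ : z ∈ Set.range ι := by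
    have : z ∈ Set.range μ := by
      rw [Scheme.Pullback.range_map]
      refine ⟨⟨closedPoint O, ?_⟩, ?_⟩
      · rw [hz]; erw [Scheme.fromSpecStalk_closedPoint]
      · show pullback.snd pX pY z ∈ Set.range hVy.fromSpec
        rw [hVy.range_fromSpec]; exact hzV
    obtain ⟨w, hw⟩ := this
    refine ⟨(pullbackSpecIso Γ(S, Sa) O Γ(Y, Vy)).hom w, ?_⟩
    rw [← hw, ← Scheme.Hom.comp_apply, hιdef, Iso.hom_inv_id_assoc]
  have hwm : (w : PrimeSpectrum T).asIdeal.comap (algebraMap O T) = maximalIdeal O := by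
    have h1 : X.fromSpecStalk x (Spec.map (CommRingCat.ofHom (algebraMap O T)) w) =
        X.fromSpecStalk x (closedPoint O) := by
      refine ((Scheme.Hom.comp_apply _ _ _).symm.trans ?_).trans (X.fromSpecStalk_closedPoint (x := x)).symm
      rw [← hι₁, Scheme.Hom.comp_apply, hw, hz]
    exact congrArg PrimeSpectrum.asIdeal ((X.fromSpecStalk x).isEmbedding.injective h1)
  have hker : RingHom.ker τ.toRingHom ≤ (w : PrimeSpectrum T).asIdeal := by
    obtain ⟨t⟩ : Nonempty (Spec (CommRingCat.of (Kx x))) := inferInstance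
    have h1 : Spec.map (CommRingCat.ofHom τ.toRingHom) t ⤳ w := by
      refine ι.isEmbedding.isInducing.specializes_iff.1 ?_
      rw [← Scheme.Hom.comp_apply, ← hγ, hw]
      exact hzΓ t
    intro a ha
    refine (PrimeSpectrum.le_iff_specializes _ _).2 h1 ?_
    show τ.toRingHom a ∈ (t : PrimeSpectrum (Kx x)).asIdeal
    rw [show τ.toRingHom a = 0 from ha]
    exact zero_mem _
  let C := τ.range
  let ρ : T →ₐ[O] C := τ.rangeRestrict
  have hρ : Function.Surjective ρ := τ.rangeRestrict_surjective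
  haveI : Algebra.FiniteType O T := inferInstance
  haveI : Algebra.FiniteType O C := Algebra.FiniteType.of_surjective ρ hρ
  obtain ⟨P, hP⟩ : (w : PrimeSpectrum T) ∈ Set.range (PrimeSpectrum.comap ρ.toRingHom) := by
    rw [range_comap_of_surjective _ _ hρ]
    exact fun a ha => hker (congrArg Subtype.val (show ρ a = 0 from ha))
  let j : Spec (CommRingCat.of C) ⟶ pullback pX pY := Spec.map (CommRingCat.ofHom ρ.toRingHom) ≫ ι
  have hjinj : Function.Injective j := by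
    intro a b hab
    rw [Scheme.Hom.comp_apply, Scheme.Hom.comp_apply] at hab
    exact PrimeSpectrum.comap_injective_of_surjective ρ.toRingHom hρ (ι.isEmbedding.injective hab)
  have hjP : j P = z := by
    rw [Scheme.Hom.comp_apply, ← hw]
    exact congrArg ι hP
  have hPm : P.asIdeal.comap (algebraMap O C) = maximalIdeal O := by
    rw [← hwm, ← hP, PrimeSpectrum.comap_asIdeal, Ideal.comap_comap]
    congr 1
    exact (RingHom.ext ρ.commutes).symm
  obtain ⟨G, hzG, hG⟩ := hiso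
  have hall : ∀ c : C, (c : Kx x) ∈ (algebraMap O (Kx x)).range := by
    refine subalgebra_le_range C P hPm ⟨j ⁻¹' G, G.2.preimage j.continuous, ?_, fun Q hQG hQm => ?_⟩
    · show j P ∈ G
      rw [hjP]; exact hzG
    refine hjinj ((hG (j Q) hQG ?_ fun t => ?_).trans hjP.symm)
    · rw [Scheme.Hom.comp_apply, ← Scheme.Hom.comp_apply ι (pullback.fst pX pY), hι₁, Scheme.Hom.comp_apply]
      refine Eq.trans (congrArg _ ?_) (X.fromSpecStalk_closedPoint (x := x))
      refine PrimeSpectrum.ext ?_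
      show (Q.asIdeal.comap ρ.toRingHom).comap (algebraMap O T) = maximalIdeal O
      rw [Ideal.comap_comap, ← hQm]
      congr 1
      exact RingHom.ext ρ.commutes
    · rw [hγ, Scheme.Hom.comp_apply, Scheme.Hom.comp_apply]
      refine Specializes.map ((PrimeSpectrum.le_iff_specializes _ _).1 fun a ha => ?_) ι.continuous
      show ρ a ∈ Q.asIdeal
      have h0 : τ a ∈ (⊥ : Ideal (Kx x)) := asIdeal_eq_bot t ▸ (ha : τ.toRingHom a ∈ (t : PrimeSpectrum (Kx x)).asIdeal)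
      rw [show ρ a = 0 from Subtype.ext (Ideal.mem_bot.1 h0)]
      exact zero_mem _
  have hb : ∀ b : Γ(Y, Vy), φA b ∈ (algebraMap O (Kx x)).range := fun b =>
    hall ⟨φA b, ⟨(1 : O) ⊗ₜ b, hτ b⟩⟩
  let eO : O ≃+* (algebraMap O (Kx x)).range :=
    RingEquiv.ofBijective (algebraMap O (Kx x)).rangeRestrict
      ⟨fun a b h => IsFractionRing.injective O (Kx x) (congrArg Subtype.val h),
        RingHom.rangeRestrict_surjective _⟩
  let φ₀ : Γ(Y, Vy) ⟶ O := CommRingCat.ofHom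
    (eO.symm.toRingHom.comp (φ.hom.codRestrict (algebraMap O (Kx x)).range hb))
  have hφ₀ : φ₀ ≫ CommRingCat.ofHom (algebraMap O (Kx x)) = φ := by
    ext b
    exact congrArg Subtype.val (eO.apply_symm_apply (φ.hom.codRestrict (algebraMap O (Kx x)).range hb b))
  obtain ⟨hg₁, hg₂⟩ := exists_hom_specStalk x pX pY hSa hxS hVy hVS φ (by rw [← hφ, hKS]) φ₀ hφ₀
  obtain ⟨V, hxV, v, hVW, hv, hvg, hvgen⟩ := exists_extension x pX pY hxW _ hg₂
  refine ⟨V, hxV, v, hVW, hv, fun h => (hvgen h).trans (hg₁.trans hφ.symm), ?_⟩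
  have h1 : V.fromSpecStalkOfMem x hxV (closedPoint O) = ⟨x, hxV⟩ := by
    refine V.ι.isOpenEmbedding.injective ?_
    rw [← Scheme.Hom.comp_apply, Scheme.Opens.fromSpecStalkOfMem_ι]
    erw [Scheme.fromSpecStalk_closedPoint]
    rfl
  rw [← h1, ← Scheme.Hom.comp_apply, hvg, Scheme.Hom.comp_apply, ← hw, ← Scheme.Hom.comp_apply ι,
    hι₂, Scheme.Hom.comp_apply]
  congr 1
  refine PrimeSpectrum.ext (Ideal.ext fun b => ?_)
  show φ₀ b ∈ maximalIdeal O ↔ (1 : O) ⊗ₜ[Γ(S, Sa)] b ∈ (w : PrimeSpectrum T).asIdeal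
  have h2 : ρ ((1 : O) ⊗ₜ[Γ(S, Sa)] b) = algebraMap O C (φ₀ b) := Subtype.ext <| by
    show τ ((1 : O) ⊗ₜ b) = algebraMap O (Kx x) (φ₀ b)
    rw [hτ]
    exact (ConcreteCategory.congr_hom hφ₀ b).symm
  rw [← hPm, ← hP, Ideal.mem_comap, PrimeSpectrum.comap_asIdeal, Ideal.mem_comap]
  show _ ↔ ρ _ ∈ P.asIdeal
  rw [h2]

end Groth.Agent.RatNormal
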