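import Groth.Agent.S3836
import Mathlib

/-!
Rational maps defined after a universally open base change.
-/

set_option autoImplicit false

open CategoryTheory CategoryTheory.Limits AlgebraicGeometry

universe u

set_option backward.isDefEq.respectTransparency false
set_option backward.defeqAttrib.useBackward true

namespace Groth.Agent.RatNormal

theorem extends_of_extends_universallyOpen {X X' Y S : Scheme.{u}} (pX : X ⟶ S) (pY : Y ⟶ S)
    [LocallyOfFiniteType pY] [IsSeparated pY]
    (hX : ∀ y : ↥X, ∃ W : X.Opens, y ∈ W ∧ IsIntegral (W : Scheme.{u}))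
    (hXn : ∀ y : ↥X, IsIntegrallyClosed (X.presheaf.stalk y))
    (U : X.Opens) (hU : Dense (U : Set ↥X)) (h : (U : Scheme.{u}) ⟶ Y) (hh : h ≫ pY = U.ι ≫ pX)
    (f : X' ⟶ X) [UniversallyOpen f] (x' : ↥X')
    (V' : X'.Opens) (hx' : x' ∈ V') (v' : (V' : Scheme.{u}) ⟶ Y) (hv' : v' ≫ pY = V'.ι ≫ f ≫ pX)
    (he : X'.homOfLE (inf_le_right : f ⁻¹ᵁ U ⊓ V' ≤ V') ≫ v' =
      X'.homOfLE (inf_le_left : f ⁻¹ᵁ U ⊓ V' ≤ f ⁻¹ᵁ U) ≫ (f ∣_ U) ≫ h) :
    ∃ (V : X.Opens) (v : (V : Scheme.{u}) ⟶ Y), f x' ∈ V ∧ v ≫ pY = V.ι ≫ pX ∧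
      X.homOfLE (inf_le_right : U ⊓ V ≤ V) ≫ v = X.homOfLE (inf_le_left : U ⊓ V ≤ U) ≫ h := by
  let P := pullback pX pY
  let γ : (U : Scheme.{u}) ⟶ P := pullback.lift U.ι h hh.symm
  let φ : (V' : Scheme.{u}) ⟶ P := pullback.lift (V'.ι ≫ f) v' (by rw [Category.assoc, hv'])
  let N := f ⁻¹ᵁ U ⊓ V'
  have hN : X'.homOfLE (inf_le_right : N ≤ V') ≫ φ =
      (X'.homOfLE (inf_le_left : N ≤ f ⁻¹ᵁ U) ≫ (f ∣_ U)) ≫ γ := by
    apply pullback.hom_ext
    · simp only [φ, γ, Category.assoc, pullback.lift_fst, morphismRestrict_ι, Scheme.homOfLE_ι_assoc]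
    · simp only [φ, γ, Category.assoc, pullback.lift_snd]
      exact he
  let z := φ ⟨x', hx'⟩
  have hz : pullback.fst pX pY z = f x' := by
    rw [← Scheme.Hom.comp_apply, pullback.lift_fst, Scheme.Hom.comp_apply]
    rfl
  have hzΓ : z ∈ closure (Set.range γ) := by
    refine mem_closure_iff.2 fun O hO hzO => ?_
    obtain ⟨p, hpO, hpU⟩ := (hU.preimage f.isOpenMap).inter_open_nonempty
      (V'.ι ''ᵁ (φ ⁻¹ᵁ ⟨O, hO⟩) : X'.Opens) (V'.ι ''ᵁ (φ ⁻¹ᵁ ⟨O, hO⟩)).2 ⟨x', ⟨x', hx'⟩, hzO, rfl⟩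
    obtain ⟨p', hp', rfl⟩ := hpO
    let n : (N : Scheme.{u}) := ⟨V'.ι p', hpU, p'.2⟩
    have hn : X'.homOfLE (inf_le_right : N ≤ V') n = p' := by
      refine V'.ι.isOpenEmbedding.injective ?_
      rw [← Scheme.Hom.comp_apply, Scheme.homOfLE_ι]
      rfl
    refine ⟨φ p', hp', ?_⟩
    rw [← hn, ← Scheme.Hom.comp_apply, hN, Scheme.Hom.comp_apply]
    exact Set.mem_range_self _
  have hiso : ∀ p ∈ closure (Set.range γ), pullback.fst pX pY p = f x' → p = z := by
    intro p hp hpx
    let a₀ := pullback.fst (V'.ι ≫ f) (pullback.fst pX pY)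
    let b := pullback.snd (V'.ι ≫ f) (pullback.fst pX pY)
    let a := a₀ ≫ φ
    have hab : a ≫ pullback.fst pX pY = b ≫ pullback.fst pX pY := by
      simp only [a, b, a₀, φ, Category.assoc, pullback.lift_fst]
      exact pullback.condition
    haveI hres : ∀ w, IsIso (γ.residueFieldMap w) := fun w => by
      refine (ConcreteCategory.isIso_iff_bijective _).2 ⟨RingHom.injective _, ?_⟩
      have h1 : Function.Bijective ((γ ≫ pullback.fst pX pY).residueFieldMap w) := by
        haveI : IsOpenImmersion (γ ≫ pullback.fst pX pY) := by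
          simp only [γ, pullback.lift_fst]; infer_instance
        exact ConcreteCategory.bijective_of_isIso _
      rw [Scheme.residueFieldMap_comp] at h1
      exact Function.Surjective.of_comp h1.2
    let P' : Over X := Over.mk (pullback.fst pX pY)
    let R' : Over X := Over.mk (b ≫ pullback.fst pX pY)
    let a' : R' ⟶ P' := Over.homMk a hab
    let b' : R' ⟶ P' := Over.homMk b
    haveI : IsSeparated P'.hom := MorphismProperty.pullback_fst (P := @IsSeparated) pX pY inferInstance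
    let e := (equalizer.ι a' b').left
    have hcl : IsClosed (Set.range e) := e.isClosedEmbedding.isClosed_range
    have hsub : b ⁻¹' Set.range γ ⊆ Set.range e := by
      rintro q ⟨w, hw⟩
      let k := (pullback (V'.ι ≫ f) (pullback.fst pX pY)).fromSpecResidueField q
      have hrng : Set.range (k ≫ a₀ ≫ V'.ι) ⊆ Set.range N.ι := by
        rintro _ ⟨s, rfl⟩
        rw [Scheme.Opens.range_ι, Scheme.Hom.comp_apply, Scheme.fromSpecResidueField_apply,
          Scheme.Hom.comp_apply]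
        refine ⟨?_, (a₀ q).2⟩
        show f (V'.ι (a₀ q)) ∈ U
        rw [← Scheme.Hom.comp_apply, ← Scheme.Hom.comp_apply, show a₀ ≫ V'.ι ≫ f = b ≫ pullback.fst pX pY from
          pullback.condition, Scheme.Hom.comp_apply, ← hw, ← Scheme.Hom.comp_apply, pullback.lift_fst]
        exact w.2
      let m := IsOpenImmersion.lift N.ι (k ≫ a₀ ≫ V'.ι) hrng
      have hm : m ≫ N.ι = k ≫ a₀ ≫ V'.ι := IsOpenImmersion.lift_fac _ _ _
      let g := Spec.map (inv (γ.residueFieldMap w) ≫
        ((pullback pX pY).residueFieldCongr hw).hom ≫ b.residueFieldMap q) ≫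
          (U : Scheme.{u}).fromSpecResidueField w
      have hg : g ≫ γ = k ≫ b := by
        simp only [g, Category.assoc, Spec.map_comp, ← Scheme.Hom.SpecMap_residueFieldMap_fromSpecResidueField]
        rw [Spec.map_inv, IsIso.inv_hom_id_assoc, Scheme.residueFieldCongr_fromSpecResidueField]
        exact b.SpecMap_residueFieldMap_fromSpecResidueField q
      have hgm : (m ≫ X'.homOfLE (inf_le_left : N ≤ f ⁻¹ᵁ U)) ≫ (f ∣_ U) = g := by
        rw [← cancel_mono U.ι, Category.assoc, morphismRestrict_ι, Category.assoc,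
          Scheme.homOfLE_ι_assoc, reassoc_of% hm,
          show a₀ ≫ V'.ι ≫ f = b ≫ pullback.fst pX pY from pullback.condition, ← reassoc_of% hg,
          pullback.lift_fst]
      have hma : m ≫ X'.homOfLE (inf_le_right : N ≤ V') = k ≫ a₀ := by
        rw [← cancel_mono V'.ι, Category.assoc, Scheme.homOfLE_ι, hm, Category.assoc]
      have hk : k ≫ a = k ≫ b := by
        show k ≫ a₀ ≫ φ = _
        rw [← reassoc_of% hma, hN, ← Category.assoc, ← Category.assoc, hgm, hg]
      let S' : Over X := Over.mk (k ≫ b ≫ pullback.fst pX pY)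
      let k' : S' ⟶ R' := Over.homMk k
      refine ⟨(equalizer.lift k' (Over.OverMorphism.ext hk) : S' ⟶ equalizer a' b').left
        (show Spec ((pullback (V'.ι ≫ f) (pullback.fst pX pY)).residueField q) from default), ?_⟩
      rw [← Scheme.Hom.comp_apply, ← Over.comp_left, equalizer.lift_ι]
      exact Scheme.fromSpecResidueField_apply _ _
    obtain ⟨q, hq1, hq2⟩ := Scheme.Pullback.exists_preimage_pullback (f := V'.ι ≫ f)
      (g := pullback.fst pX pY) ⟨x', hx'⟩ p (by rw [Scheme.Hom.comp_apply, hpx]; rfl)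
    obtain ⟨r, hr⟩ : q ∈ Set.range e := by
      refine closure_minimal hsub hcl ?_
      rw [← b.isOpenMap.preimage_closure_eq_closure_preimage b.continuous]
      show b q ∈ closure (Set.range γ)
      rw [hq2]; exact hp
    have : a q = b q := by
      rw [← hr]
      show (e ≫ a) r = (e ≫ b) r
      exact congrArg (fun j : _ ⟶ P' => j.left r) (equalizer.condition a' b')
    rw [← hq2]
    show b q = z
    rw [← this, Scheme.Hom.comp_apply, hq1]
  exact S3836.result pX pY hX U hU h hh.symm (f x') (hXn _) z hz hzΓ ⟨⊤, by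
    ext p
    refine ⟨fun hp => hiso p hp.1.2 hp.2, ?_⟩
    rintro rfl
    exact ⟨⟨trivial, hzΓ⟩, hz⟩⟩

end Groth.Agent.RatNormal
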